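import Mathlib
import Cfsg.Agent.Lib.Helper55.OOG.Defs
import Cfsg.Agent.Lib.Helper55.OOG.Defs2

/-!
# Project OOG (S2413), package [RED]

A non-zero singular vector is moved into the line `⟨e_{i₀}⟩` (from [RED1] and the strong [RED2]).
-/

set_option autoImplicit false
open scoped Matrix

namespace Cfsg.Agent.Lib.Helper76.OOG

open Cfsg.Agent.Lib.Helper55.OOG

universe u

/-- **[RED]** -/
theorem pkgRed_of (h1 : PkgRed1.{u}) (h2 : PkgRed2S.{u}) : PkgRed.{u} := by
  intro m F _ h2ne K hS hL i₀ p hp hQ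
  obtain ⟨g1, hg1, hx1⟩ := h1 m F h2ne K hS hL i₀ p hp hQ
  obtain ⟨g2, hg2, hτ, hx, hj⟩ := h2 m F K hS hL i₀ (mat g1 *ᵥ p) hx1
  refine ⟨g2 * g1, K.mul_mem hg2 hg1, (mat g2 *ᵥ (mat g1 *ᵥ p)) (Sum.inr (Sum.inl i₀)), ?_⟩
  rw [mul_act]
  have hQq : QF m F (mat g2 *ᵥ (mat g1 *ᵥ p)) = 0 := by rw [Q_act, Q_act, hQ]
  generalize mat g2 *ᵥ (mat g1 *ᵥ p) = q at hτ hx hj hQq ⊢
  have hx0 : q (Sum.inr (Sum.inl i₀)) ≠ 0 := by rw [hx]; exact hx1
  have hy : q (Sum.inr (Sum.inr i₀)) = 0 := by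
    have h3 : QF m F q = q (Sum.inr (Sum.inl i₀)) * q (Sum.inr (Sum.inr i₀)) := by
      unfold QF Cfsg.quadFormOdd
      rw [hτ, Finset.sum_eq_single i₀]
      · ring
      · intro j _ hji
        rw [(hj j hji).1, zero_mul]
      · intro h
        exact absurd (Finset.mem_univ i₀) h
    rw [h3] at hQq
    rcases mul_eq_zero.mp hQq with h | h
    · exact absurd h hx0
    · exact h
  funext k
  rcases k with u | j | j
  · cases u
    rw [hτ]
    simp
  · by_cases hji : j = i₀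
    · subst hji
      simp
    · rw [(hj j hji).1]
      simp [hji]
  · by_cases hji : j = i₀
    · subst hji
      rw [hy]
      simp
    · rw [(hj j hji).2]
      simp

end Cfsg.Agent.Lib.Helper76.OOG
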