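import Mathlib
import Cfsg.Agent.Lib.Helper55.OOG.Defs

/-!
# Project OOG (S2413), package [RED1]

A non-zero singular vector is moved to one with `x_{i₀} ≠ 0`.
-/

set_option autoImplicit false
open scoped Matrix

namespace Cfsg.Agent.Lib.Helper76.OOG

open Cfsg.Agent.Lib.Helper55.OOG

universe u

/-- coordinates of the image under a Siegel transformation. -/
theorem sieg_apply {m : ℕ} {F : Type u} [Field F] {u w : Vec m F} {σ : ↥(Iso m F)}
    (h : IsSieg u w σ) (v : Vec m F) (k : Unit ⊕ (Fin m ⊕ Fin m)) :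
    (mat σ *ᵥ v) k = v k + B v u * w k - (B v w + QF m F w * B v u) * u k := by
  rw [h v]
  simp only [Pi.add_apply, Pi.sub_apply, Pi.smul_apply, smul_eq_mul]

/-- **[RED1]** -/
theorem pkgRed1_of (hE : PkgExist.{u}) : PkgRed1.{u} := by
  intro m F _ h2 K hS hL i₀ p hp hQ
  by_cases hx : p (Sum.inr (Sum.inl i₀)) = 0
  swap
  · exact ⟨1, K.one_mem, by rw [one_act]; exact hx⟩
  by_cases hy : p (Sum.inr (Sum.inr i₀)) = 0
  swap
  · -- case 2
    have key : ∀ c : F, ∃ g ∈ K, (mat g *ᵥ p) (Sum.inr (Sum.inl i₀)) =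
        -(c * (2 * p (Sum.inl ())) + c * c * p (Sum.inr (Sum.inr i₀))) := by
      intro c
      obtain ⟨σ, hσ⟩ := hE m F (E i₀) (c • T0) (Q_E i₀)
        (by rw [B_smul_right, B_E_T0, mul_zero])
      refine ⟨σ, (hS i₀ c σ).1 hσ, ?_⟩
      rw [sieg_apply hσ, B_E, B_smul_right, B_T0, Q_smul, Q_T0, hx]
      simp
    by_cases h1 : 2 * p (Sum.inl ()) + p (Sum.inr (Sum.inr i₀)) = 0
    · obtain ⟨g, hg, hgx⟩ := key (-1)
      refine ⟨g, hg, ?_⟩
      rw [hgx]
      intro h0
      apply hy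
      have h3 : 2 * p (Sum.inr (Sum.inr i₀)) = 0 := by linear_combination h1 - h0
      rcases mul_eq_zero.mp h3 with h | h
      · exact absurd h h2
      · exact h
    · obtain ⟨g, hg, hgx⟩ := key 1
      refine ⟨g, hg, ?_⟩
      rw [hgx]
      intro h0
      apply h1
      linear_combination -h0
  -- case 3
  have hex : ∃ a : Fin m, a ≠ i₀ ∧
      (p (Sum.inr (Sum.inl a)) ≠ 0 ∨ p (Sum.inr (Sum.inr a)) ≠ 0) := by
    by_contra hcon
    have hall : ∀ a : Fin m, p (Sum.inr (Sum.inl a)) = 0 ∧ p (Sum.inr (Sum.inr a)) = 0 := by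
      intro a
      by_cases ha : a = i₀
      · subst ha
        exact ⟨hx, hy⟩
      · constructor
        · by_contra h
          exact hcon ⟨a, ha, Or.inl h⟩
        · by_contra h
          exact hcon ⟨a, ha, Or.inr h⟩
    have hτ : p (Sum.inl ()) = 0 := by
      have h3 : QF m F p = p (Sum.inl ()) ^ 2 := by
        unfold QF Cfsg.quadFormOdd
        rw [Finset.sum_eq_zero]
        · ring
        · intro j _
          rw [(hall j).1, zero_mul]
      rw [h3] at hQ
      exact (pow_eq_zero_iff (two_ne_zero)).mp hQ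
    apply hp
    funext k
    rcases k with u | j | j
    · cases u
      exact hτ
    · exact (hall j).1
    · exact (hall j).2
  obtain ⟨a, ha, hxa | hya⟩ := hex
  · obtain ⟨σ, hσ⟩ := hE m F (Fv a) ((1 : F) • E i₀) (Q_Fv a)
      (by rw [B_smul_right, B_Fv_E, if_neg ha, mul_zero])
    refine ⟨σ, ((hL i₀ a (Ne.symm ha) 1 σ).2.2.1) hσ, ?_⟩
    rw [sieg_apply hσ, B_Fv, hx]
    simpa [ha] using hxa
  · obtain ⟨σ, hσ⟩ := hE m F (E a) ((1 : F) • E i₀) (Q_E a)
      (by rw [B_smul_right, B_E_E, mul_zero])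
    refine ⟨σ, ((hL i₀ a (Ne.symm ha) 1 σ).1) hσ, ?_⟩
    rw [sieg_apply hσ, B_E, hx]
    simpa [ha] using hya

end Cfsg.Agent.Lib.Helper76.OOG
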